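import Cfsg.Agent.Lib.QDWreathedNoIndexTwo.Main
import Cfsg.Agent.Lib.BrauerSuzukiQ.Theorem

/-!
Centralizers of involutions in a group with quasi-dihedral or wreathed Sylow 2-subgroups and without
a subgroup of index two.
-/

set_option autoImplicit false

namespace CfsgLib.QDWNoTwo

open Cfsg CfsgLib.GroupSimple CfsgLib.Wr
open CfsgLib.RankTwoSimple (isConj_of_card_classes)

variable {G : Type*} [Group G] [Finite G]

theorem shape_equiv {A : Type*} [Group A] {B : Type*} [Group B] (e : A ≃* B)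
    (h : IsQuasiDihedral A ∨ IsWreathed A) : IsQuasiDihedral B ∨ IsWreathed B := by
  rcases h with ⟨n, hn, hc, x, y, hx, hy, hxy⟩ | ⟨n, hn, hc, x, y, z, hx, hxy, hd, hz, hzx⟩
  · refine Or.inl ⟨n, hn, by rw [← Nat.card_congr e.toEquiv]; exact hc, e x, e y,
      (orderOf_injective e.toMonoidHom e.injective x).trans hx,
      (orderOf_injective e.toMonoidHom e.injective y).trans hy, ?_⟩
    rw [← map_inv, ← map_mul, ← map_mul, hxy, map_pow]
  · refine Or.inr ⟨n, hn, by rw [← Nat.card_congr e.toEquiv]; exact hc, e x, e y, e z,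
      (orderOf_injective e.toMonoidHom e.injective x).trans hx,
      by rw [← map_mul, hxy, map_mul], ?_,
      (orderOf_injective e.toMonoidHom e.injective z).trans hz,
      by rw [← map_inv, ← map_mul, ← map_mul, hzx]⟩
    rw [show e y = e.toMonoidHom y from rfl,
      show e x = e.toMonoidHom x from rfl, ← MonoidHom.map_zpowers, ← MonoidHom.map_zpowers,
      ← Subgroup.map_inf _ _ _ e.injective, hd, Subgroup.map_bot]

theorem qd_equiv {A : Type*} [Group A] {B : Type*} [Group B] (e : A ≃* B)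
    (h : IsQuasiDihedral A) : IsQuasiDihedral B := by
  obtain ⟨n, hn, hc, x, y, hx, hy, hxy⟩ := h
  refine ⟨n, hn, by rw [← Nat.card_congr e.toEquiv]; exact hc, e x, e y,
    (orderOf_injective e.toMonoidHom e.injective x).trans hx,
    (orderOf_injective e.toMonoidHom e.injective y).trans hy, ?_⟩
  rw [← map_inv, ← map_mul, ← map_mul, hxy, map_pow]

theorem wreathed_equiv {A : Type*} [Group A] {B : Type*} [Group B] (e : A ≃* B)
    (h : IsWreathed A) : IsWreathed B := by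
  obtain ⟨n, hn, hc, x, y, z, hx, hxy, hd, hz, hzx⟩ := h
  refine ⟨n, hn, by rw [← Nat.card_congr e.toEquiv]; exact hc, e x, e y, e z,
    (orderOf_injective e.toMonoidHom e.injective x).trans hx,
    by rw [← map_mul, hxy, map_mul], ?_,
    (orderOf_injective e.toMonoidHom e.injective z).trans hz,
    by rw [← map_inv, ← map_mul, ← map_mul, hzx]⟩
  rw [show e y = e.toMonoidHom y from rfl,
    show e x = e.toMonoidHom x from rfl, ← MonoidHom.map_zpowers, ← MonoidHom.map_zpowers,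
    ← Subgroup.map_inf _ _ _ e.injective, hd, Subgroup.map_bot]

theorem centralizer_subgroupOf (A C : Subgroup G) (hA : A ≤ C) :
    (Subgroup.centralizer (A : Set G)).subgroupOf C = Subgroup.centralizer (A.subgroupOf C : Set C) := by
  ext g
  simp only [Subgroup.mem_subgroupOf, Subgroup.mem_centralizer_iff]
  exact ⟨fun h y hy => Subtype.ext (h _ hy), fun h y hy => congrArg Subtype.val (h ⟨y, hA hy⟩ hy)⟩

/-- Normalizer quotients inside an overgroup of the normalizer. -/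
theorem relIndex_sup_centralizer {A C : Subgroup G} (hN : Subgroup.normalizer (A : Set G) ≤ C) :
    (A.subgroupOf C ⊔ Subgroup.centralizer (A.subgroupOf C : Set C)).relIndex
        (Subgroup.normalizer (A.subgroupOf C : Set C)) =
      (A ⊔ Subgroup.centralizer (A : Set G)).relIndex (Subgroup.normalizer (A : Set G)) := by
  have hA : A ≤ C := Subgroup.le_normalizer.trans hN
  rw [← centralizer_subgroupOf A C hA,
    ← Subgroup.subgroupOf_sup hA ((Subgroup.centralizer_le_normalizer _).trans hN),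
    ← Subgroup.subgroupOf_normalizer_eq hA]
  exact Subgroup.relIndex_subgroupOf hN

/-- The four-group and the quaternion group through the central involution. -/
theorem qd_local (U : Sylow 2 G) (hQD : Cfsg.IsQuasiDihedral (U : Subgroup G)) (x : G)
    (hxU : ∀ a : (U : Subgroup G), a ∈ Subgroup.center (U : Subgroup G) → orderOf a = 2 → (a : G) = x) :
    ∃ T Q : Subgroup G, IsKleinFour T ∧ T ≤ (U : Subgroup G) ∧ Q ≤ (U : Subgroup G) ∧
      Nonempty (Q ≃* QuaternionGroup 2) ∧ x ∈ T ∧ x ∈ Q := by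
  haveI : Fact (Nat.Prime 2) := ⟨Nat.prime_two⟩
  obtain ⟨n, -, hcard, d, -⟩ := CfsgLib.QD.exists_data hQD
  have hx : ((d.z : (U : Subgroup G)) : G) = x := hxU _ (CfsgLib.QD.z_central d) (CfsgLib.QD.orderOf_z d)
  -- a four group and a quaternion group
  let T₀ : Subgroup (U : Subgroup G) := Subgroup.closure {d.z, d.y}
  have hz2 := CfsgLib.QD.orderOf_z d
  have hzy : d.z ≠ d.y := fun h => CfsgLib.QD.y_not_mem d (h ▸ CfsgLib.QD.z_mem_X d)
  have hzyo : orderOf (d.z * d.y) = 2 := by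
    refine CfsgLib.Involutions.orderOf_eq_two_iff'.mpr ⟨?_, fun h => hzy ?_⟩
    · have hc : d.y * d.z = d.z * d.y := Subgroup.mem_center_iff.mp (CfsgLib.QD.z_central d) d.y
      calc d.z * d.y * (d.z * d.y) = d.z * (d.y * d.z) * d.y := by group
        _ = d.z * d.z * (d.y * d.y) := by rw [hc]; group
        _ = 1 := by rw [CfsgLib.QD.hyy, CfsgLib.Involutions.mul_self_eq_one_of_orderOf hz2, mul_one]
    · rw [eq_inv_of_mul_eq_one_left h, CfsgLib.QD.yinv]
  obtain ⟨eT⟩ : Nonempty (DihedralGroup 2 ≃* T₀) := by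
    have h := (MonoidHom.ofInjective (CfsgLib.Involutions.toClosure_injective hz2 d.hy hzy)).trans
      (MulEquiv.subgroupCongr (CfsgLib.Involutions.toClosure_range
        (CfsgLib.Involutions.mul_self_eq_one_of_orderOf hz2) (CfsgLib.QD.hyy d)))
    rw [hzyo] at h
    exact ⟨h⟩
  let T := T₀.map (U : Subgroup G).subtype
  have eT' : DihedralGroup 2 ≃* T := eT.trans (T₀.equivMapOfInjective _ (Subgroup.subtype_injective _))
  have hTk : IsKleinFour T :=
    ⟨by rw [← Nat.card_congr eT'.toEquiv, IsKleinFour.card_four],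
      by rw [← Monoid.exponent_eq_of_mulEquiv eT', IsKleinFour.exponent_two]⟩
  let c : (U : Subgroup G) := d.x ^ (2 * (d.M : ℤ))
  let b : (U : Subgroup G) := d.x ^ (1 : ℤ) * d.y
  have hc4 : orderOf c = 4 := CfsgLib.QD.orderOf_zpow_quarter d
  have hb2 : b * b = c ^ 2 := by
    show d.x ^ (1 : ℤ) * d.y * (d.x ^ (1 : ℤ) * d.y) = (d.x ^ (2 * (d.M : ℤ))) ^ 2
    rw [CfsgLib.QD.xy_mul_self, ← zpow_natCast, ← zpow_mul]
    congr 1
    push_cast
    ring
  have hbc : b * c * b⁻¹ = c⁻¹ := by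
    show d.x ^ (1 : ℤ) * d.y * d.x ^ (2 * (d.M : ℤ)) * (d.x ^ (1 : ℤ) * d.y)⁻¹ = (d.x ^ (2 * (d.M : ℤ)))⁻¹
    rw [mul_inv_rev, show d.x ^ (1 : ℤ) * d.y * d.x ^ (2 * (d.M : ℤ)) * (d.y⁻¹ * (d.x ^ (1 : ℤ))⁻¹)
        = d.x ^ (1 : ℤ) * (d.y * d.x ^ (2 * (d.M : ℤ)) * d.y⁻¹) * (d.x ^ (1 : ℤ))⁻¹ by simp [mul_assoc],
      CfsgLib.QD.conj_y, ← zpow_neg, ← zpow_neg, ← zpow_add, ← zpow_add, CfsgLib.QD.zpow_eq_iff]
    exact ⟨-(d.M : ℤ), by ring⟩
  obtain ⟨eQ₀⟩ := CfsgLib.Quat.nonempty_equiv (a := c) (b := b) (n := 2)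
    (by rw [show 2 * 2 = orderOf c by rw [hc4], pow_orderOf_eq_one]) hb2 hbc (by rw [hc4])
    (fun h => CfsgLib.QD.xy_not_mem d 1 ((Subgroup.zpowers_le.mpr (CfsgLib.QD.zpow_mem_X d _)) h))
  let Q := (Subgroup.closure ({c, b} : Set (U : Subgroup G))).map (U : Subgroup G).subtype
  have eQ : Q ≃* QuaternionGroup 2 :=
    (Subgroup.equivMapOfInjective _ _ (Subgroup.subtype_injective _)).symm.trans eQ₀
  have hTU : T ≤ (U : Subgroup G) := Subgroup.map_subtype_le _
  have hQU : Q ≤ (U : Subgroup G) := Subgroup.map_subtype_le _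
  refine ⟨T, Q, hTk, hTU, hQU, ⟨eQ⟩, ?_, ?_⟩
  · exact ⟨d.z, Subgroup.subset_closure (Or.inl rfl), hx⟩
  · have hcQ : c ∈ Subgroup.closure ({c, b} : Set (U : Subgroup G)) := Subgroup.subset_closure (Or.inl rfl)
    have hc2 : c ^ 2 = d.z := by
      show (d.x ^ (2 * (d.M : ℤ))) ^ 2 = d.z
      rw [← zpow_natCast, ← zpow_mul, CfsgLib.QD.z_mem_iff]
      exact ⟨0, by push_cast; ring⟩
    rw [← hx, ← hc2]
    exact ⟨c ^ 2, pow_mem hcQ 2, rfl⟩

/-- In the absence of index-two subgroups both normalizer quotients have order six. -/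
theorem qd_six (U : Sylow 2 G) (hQD : Cfsg.IsQuasiDihedral (U : Subgroup G))
    (hG : ∀ H : Subgroup G, H.index ≠ 2) {T Q : Subgroup G} (hTk : IsKleinFour T)
    (hTU : T ≤ (U : Subgroup G)) (hQU : Q ≤ (U : Subgroup G)) (eQ : Q ≃* QuaternionGroup 2) :
    (Subgroup.centralizer (T : Set G)).relIndex (Subgroup.normalizer (T : Set G)) = 6 ∧
      (Q ⊔ Subgroup.centralizer (Q : Set G)).relIndex (Subgroup.normalizer (Q : Set G)) = 6 := by
  obtain ⟨n, -, hcard, -, -⟩ := CfsgLib.QD.exists_data hQD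
  obtain ⟨h1, h2⟩ := Cfsg.Agent.S1203.result U hQD T hTk hTU Q hQU eQ
  rcases h1 with h1 | h1 <;> rcases h2 with h2 | h2
  · exfalso
    obtain ⟨⟨P, N, hN, hc⟩, -⟩ := Cfsg.Agent.S1207.result U hQD T hTk hTU Q hQU eQ h1 h2
    exact no_two_power_index hG hN (n := n + 1) (by omega)
      (by rw [Subgroup.IsComplement'.index_eq_card hc.symm, ← hcard]; exact Nat.card_congr (P.equiv U).toEquiv)
  · obtain ⟨⟨K, -, hK2, -⟩, -⟩ := Cfsg.Agent.S1205.result U hQD T hTk hTU Q hQU eQ h1 h2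
    exact absurd hK2 (hG K)
  · obtain ⟨⟨K, -, hK2, -⟩, -⟩ := Cfsg.Agent.S1206.result U hQD T hTk hTU Q hQU eQ h1 h2
    exact absurd hK2 (hG K)
  · exact ⟨h1, h2⟩

theorem wreathed_six (S : Sylow 2 G) (hW : Cfsg.IsWreathed (S : Subgroup G))
    (hG : ∀ H : Subgroup G, H.index ≠ 2) (n : ℕ) (hn : Nat.card S = 2 ^ (2 * n + 1)) (hn1 : 1 ≤ n)
    (U : Subgroup G) (hUS : U ≤ S) (hUab : IsMulCommutative U) (hUcard : Nat.card U = 2 ^ (2 * n))
    (Q : Subgroup G) (hQS : Q ≤ S) (eQ : Q ≃* QuaternionGroup 2) :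
    ((Q ⊔ ((Subgroup.center (S : Subgroup G)).map (S : Subgroup G).subtype)) ⊔
        Subgroup.centralizer ((Q ⊔ ((Subgroup.center (S : Subgroup G)).map (S : Subgroup G).subtype) : Subgroup G) : Set G)).relIndex
      (Subgroup.normalizer ((Q ⊔ ((Subgroup.center (S : Subgroup G)).map (S : Subgroup G).subtype) : Subgroup G) : Set G)) = 6 ∧
      Nat.card {C : ConjClasses G // ∃ t : G, orderOf t = 2 ∧ ConjClasses.mk t = C} = 1 := by
  obtain ⟨h1', h2'⟩ := Cfsg.Agent.S1208.result S hW n hn U hUS hUab hUcard Q hQS eQ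
  rcases h1' with h1' | h1' <;> rcases h2' with h2' | h2'
  · exfalso
    obtain ⟨⟨P, N, hN, hc⟩, -⟩ := Cfsg.Agent.S1212.result S hW n hn U hUS hUab hUcard Q hQS eQ h1' h2'
    refine no_two_power_index hG hN (n := 2 * n + 1) (by omega) ?_
    rw [Subgroup.IsComplement'.index_eq_card hc.symm, ← hn]
    exact Nat.card_congr (P.equiv S).toEquiv
  · obtain ⟨⟨K, hK, hKi, -⟩, -⟩ := Cfsg.Agent.S1210.result S hW n hn U hUS hUab hUcard Q hQS eQ h1' h2'
    exact (no_two_power_index hG hK (n := n) hn1 hKi).elim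
  · obtain ⟨⟨K, hK, hKi, -⟩, -⟩ := Cfsg.Agent.S1211.result S hW n hn U hUS hUab hUcard Q hQS eQ h1' h2'
    exact absurd hKi (hG K)
  · exact ⟨h2', (Cfsg.Agent.S1209.result S hW n hn U hUS hUab hUcard Q hQS eQ h1' h2').2⟩

/-- The standard abelian and quaternion subgroups. -/
theorem wreathed_local (S : Sylow 2 G) (hW : Cfsg.IsWreathed (S : Subgroup G)) :
    ∃ n : ℕ, 2 ≤ n ∧ Nat.card S = 2 ^ (2 * n + 1) ∧ ∃ U Q : Subgroup G, U ≤ (S : Subgroup G) ∧
      IsMulCommutative U ∧ Nat.card U = 2 ^ (2 * n) ∧ Q ≤ (S : Subgroup G) ∧ Nonempty (Q ≃* QuaternionGroup 2) := by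
  obtain ⟨n, hn2, hn, d, hdh⟩ := CfsgLib.Wr.exists_data hW
  have h2h : 2 * d.h = 2 ^ n := by rw [hdh, ← pow_succ']; congr 1; omega
  have hm : d.h = 2 * 2 ^ (n - 2) := by rw [hdh, ← pow_succ']; congr 1; omega
  refine ⟨n, hn2, hn, up S d.U, up S (d.Qs (2 ^ (n - 2)) d.h 0), up_le S _,
    ⟨⟨fun a b => Subtype.ext (U_comm_up S d a a.2 b b.2)⟩⟩, ?_, up_le S _, ?_⟩
  · rw [Nat.card_congr (upEquiv S _).toEquiv, card_U, h2h, ← pow_add, two_mul]
  · obtain ⟨eQ₀⟩ := Qs_equiv d hm (add_zero (d.h : ℤ))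
    exact ⟨(upEquiv S _).trans eQ₀⟩

/-- Every involution is central in some Sylow 2-subgroup. -/
theorem exists_sylow_central (S : Sylow 2 G)
    (hS : IsQuasiDihedral (S : Subgroup G) ∨ IsWreathed (S : Subgroup G))
    (hG : ∀ H : Subgroup G, H.index ≠ 2) (x : G) (hx : orderOf x = 2) :
    ∃ R : Sylow 2 G, ∃ hxR : x ∈ (R : Subgroup G),
      (IsQuasiDihedral (R : Subgroup G) ∧ IsQuasiDihedral (S : Subgroup G) ∨
        IsWreathed (R : Subgroup G) ∧ IsWreathed (S : Subgroup G)) ∧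
      (⟨x, hxR⟩ : (R : Subgroup G)) ∈ Subgroup.center (R : Subgroup G) := by
  haveI : Fact (Nat.Prime 2) := ⟨Nat.prime_two⟩
  have hI : Nat.card {C : ConjClasses G // ∃ t : G, orderOf t = 2 ∧ ConjClasses.mk t = C} = 1 := by
    rcases hS with h | h
    · exact (classes_of_quasiDihedral S h hG).1
    · obtain ⟨n, hn2, hn, U, Q, hUS, hUab, hUc, hQS, ⟨eQ⟩⟩ := wreathed_local S h
      exact (wreathed_six S h hG n hn (by omega) U hUS hUab hUc Q hQS eQ).2
  obtain ⟨c, hc2, hcc⟩ : ∃ c : (S : Subgroup G), orderOf c = 2 ∧ c ∈ Subgroup.center (S : Subgroup G) := by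
    rcases hS with h | h
    · obtain ⟨-, -, -, d, -⟩ := CfsgLib.QD.exists_data h
      exact ⟨_, CfsgLib.QD.orderOf_z d, CfsgLib.QD.z_central d⟩
    · obtain ⟨-, -, -, d, -⟩ := CfsgLib.Wr.exists_data h
      exact ⟨_, (orderOf_half_u d).2, w_central d⟩
  obtain ⟨g, hg⟩ := isConj_iff.mp (isConj_of_card_classes hI
    (a := (c : G)) (b := x) (by rw [Subgroup.orderOf_coe, hc2]) hx)
  have hmem : ∀ y : G, y ∈ ((g • S : Sylow 2 G) : Subgroup G) ↔ g⁻¹ * y * g ∈ (S : Subgroup G) := fun y => by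
    rw [Sylow.coe_subgroup_smul, Subgroup.mem_pointwise_smul_iff_inv_smul_mem]
    simp [mul_assoc]
  have hxR : x ∈ ((g • S : Sylow 2 G) : Subgroup G) := (hmem x).mpr (by
    rw [← hg]; simpa [mul_assoc] using c.2)
  refine ⟨g • S, hxR, ?_, Subgroup.mem_center_iff.mpr fun y => Subtype.ext ?_⟩
  · rcases hS with h | h
    · exact Or.inl ⟨qd_equiv (S.equiv (g • S)) h, h⟩
    · exact Or.inr ⟨wreathed_equiv (S.equiv (g • S)) h, h⟩
  · show (y : G) * x = x * (y : G)
    have h : (g⁻¹ * (y : G) * g) * (c : G) = (c : G) * (g⁻¹ * (y : G) * g) :=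
      congrArg Subtype.val (Subgroup.mem_center_iff.mp hcc ⟨_, (hmem y).mp y.2⟩)
    rw [← hg]
    calc (y : G) * (g * (c : G) * g⁻¹) = g * ((g⁻¹ * (y : G) * g) * (c : G)) * g⁻¹ := by group
      _ = g * ((c : G) * (g⁻¹ * (y : G) * g)) * g⁻¹ := by rw [h]
      _ = g * (c : G) * g⁻¹ * (y : G) := by group

/-- The centralizer of an involution. -/
theorem centralizer_structure (S : Sylow 2 G)
    (hS : IsQuasiDihedral (S : Subgroup G) ∨ IsWreathed (S : Subgroup G))
    (hG : ∀ H : Subgroup G, H.index ≠ 2) (x : G) (hx : orderOf x = 2) (C : Subgroup G)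
    (hC : C = Subgroup.centralizer ({x} : Set G)) :
    ∃ R : Sylow 2 C, Nat.card R = Nat.card S ∧
      (∃ K : Subgroup C, K.Normal ∧ (∃ a : ℕ, K.index = 2 ^ a) ∧ (∀ H : Subgroup K, H.index ≠ 2) ∧
        (∀ P : Sylow 2 K, ∃ m : ℕ, 1 ≤ m ∧ Nonempty ((P : Subgroup K) ≃* QuaternionGroup (2 ^ m)))) ∧
      (∀ Z₀ : Subgroup C, Z₀ ≤ (Subgroup.center (R : Subgroup C)).map (R : Subgroup C).subtype →
        Cfsg.IsWeaklyClosed Z₀ (R : Subgroup C)) := by
  haveI : Fact (Nat.Prime 2) := ⟨Nat.prime_two⟩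
  have hx1 : x ≠ 1 := fun h => by rw [h, orderOf_one] at hx; omega
  obtain ⟨R₀, hxR, hR, hxc⟩ := exists_sylow_central S hS hG x hx
  have hRC : (R₀ : Subgroup G) ≤ C := fun y hy => by
    rw [hC, Subgroup.mem_centralizer_singleton_iff]
    exact congrArg Subtype.val (Subgroup.mem_center_iff.mp hxc ⟨y, hy⟩)
  have hcx : ∀ g ∈ C, g * x = x * g := fun g hg => by
    rw [hC, Subgroup.mem_centralizer_singleton_iff] at hg
    exact hg
  let R : Sylow 2 C := R₀.subtype hRC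
  let e : (R : Subgroup C) ≃* (R₀ : Subgroup G) := Subgroup.subgroupOfEquivOfLe hRC
  refine ⟨R, (Nat.card_congr e.toEquiv).trans (Nat.card_congr (R₀.equiv S).toEquiv), ?_⟩
  rcases hR with ⟨hR, -⟩ | ⟨hR, -⟩
  · -- quasi-dihedral
    have hRQ := qd_equiv e.symm hR
    obtain ⟨T, Q, hTk, hTR, hQR, ⟨eQ⟩, hxT, hxQ⟩ := qd_local R₀ hR x fun a ha ha2 =>
      congrArg Subtype.val ((center_facts (Or.inl hR)).1 a ha ⟨x, hxR⟩ hxc ha2
        ((Subgroup.orderOf_coe (⟨x, hxR⟩ : (R₀ : Subgroup G))).symm.trans hx))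
    obtain ⟨-, hQ6⟩ := qd_six R₀ hR hG hTk hTR hQR eQ
    have hNQ : Subgroup.normalizer (Q : Set G) ≤ C := by
      intro g hg
      rw [hC, Subgroup.mem_centralizer_singleton_iff]
      have hy : g * x * g⁻¹ ∈ Q := (Subgroup.mem_normalizer_iff.mp hg x).mp hxQ
      have h1 : orderOf (eQ ⟨x, hxQ⟩) = 2 := by
        rw [eQ.orderOf_eq]; exact (Subgroup.orderOf_mk x hxQ).trans hx
      have h2 : orderOf (eQ ⟨_, hy⟩) = 2 := by
        rw [eQ.orderOf_eq, Subgroup.orderOf_mk]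
        exact (orderOf_injective (MulAut.conj g).toMonoidHom (MulAut.conj g).injective x).trans hx
      have h3 := eQ.injective ((CfsgLib.QuaternionSylow.quaternion_involution h2).trans
        (CfsgLib.QuaternionSylow.quaternion_involution h1).symm)
      exact mul_inv_eq_iff_eq_mul.mp (congrArg Subtype.val h3)
    have hQC := hQR.trans hRC
    have hTC := hTR.trans hRC
    have eQ' : Q.subgroupOf C ≃* QuaternionGroup 2 := (Subgroup.subgroupOfEquivOfLe hQC).trans eQ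
    have hTk' : IsKleinFour (T.subgroupOf C) :=
      ⟨by rw [Nat.card_congr (Subgroup.subgroupOfEquivOfLe hTC).toEquiv]; exact hTk.card_four,
        by rw [Monoid.exponent_eq_of_mulEquiv (Subgroup.subgroupOfEquivOfLe hTC)]; exact hTk.exponent_two⟩
    have hT' : T.subgroupOf C ≤ (R : Subgroup C) := fun y hy => hTR hy
    have hQ' : Q.subgroupOf C ≤ (R : Subgroup C) := fun y hy => hQR hy
    have h6 := (relIndex_sup_centralizer (A := Q) hNQ).trans hQ6
    rcases (Cfsg.Agent.S1203.result R hRQ _ hTk' hT' _ hQ' eQ').1 with h1 | h1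
    · obtain ⟨⟨K, hK, hK2, hKP, hKH⟩, hwc, -⟩ :=
        Cfsg.Agent.S1205.result R hRQ _ hTk' hT' _ hQ' eQ' h1 h6
      refine ⟨⟨K, hK, ⟨1, by rw [hK2, pow_one]⟩, hKH, hKP⟩, fun Z₀ hZ₀ => ?_⟩
      -- the centre has order two
      set Z := (Subgroup.center (R : Subgroup C)).map (R : Subgroup C).subtype with hZ
      have hZc : Nat.card Z = 2 := by
        obtain ⟨-, -, -, d, -⟩ := CfsgLib.QD.exists_data hRQ
        rw [hZ, Subgroup.card_map_of_injective (R : Subgroup C).subtype_injective,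
          CfsgLib.QD.center_eq_zpowers d, Nat.card_zpowers, CfsgLib.QD.orderOf_z]
      rcases (Nat.dvd_prime Nat.prime_two).mp (hZc ▸ Subgroup.card_dvd_of_le hZ₀) with h | h
      · rw [Subgroup.eq_bot_of_card_eq _ h]
        exact ⟨bot_le, fun g _ => Subgroup.map_bot _⟩
      · rw [Subgroup.eq_of_le_of_card_ge hZ₀ (by rw [h, hZc])]
        exact hwc
    · exfalso
      obtain ⟨g, hg, hgC, hodd⟩ := CfsgLib.QD.exists_odd_klein h1
      have hxC : x ∈ C := hTC hxT
      refine hgC (Subgroup.mem_centralizer_iff.mpr fun b hb => ?_)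
      rcases eq_or_ne b 1 with rfl | hb1
      · rw [one_mul, mul_one]
      have hgx : g * (⟨x, hxC⟩ : C) * g⁻¹ = ⟨x, hxC⟩ := Subtype.ext (mul_inv_eq_iff_eq_mul.mpr (hcx g g.2))
      rcases CfsgLib.LocalFusion.klein_transitive hTk' hg hgC hodd (a := ⟨x, hxC⟩) (b := b) hxT
        (fun h => hx1 (congrArg Subtype.val h)) hb hb1 with e' | e' | e'
      · rw [e']; exact Subtype.ext (hcx g g.2).symm
      · rw [e', hgx]; exact Subtype.ext (hcx g g.2).symm
      · rw [e', CfsgLib.LocalFusion.conj_pow_fix hgx 2]; exact Subtype.ext (hcx g g.2).symm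
  · -- wreathed
    have hRW := wreathed_equiv e.symm hR
    obtain ⟨n, hn2, hn, U, Q, hUR, hUab, hUc, hQR, ⟨eQ⟩⟩ := wreathed_local R₀ hR
    obtain ⟨h6, -⟩ := wreathed_six R₀ hR hG n hn (by omega) U hUR hUab hUc Q hQR eQ
    obtain ⟨-, d, m, a, b, hm, -, -, -, hab, hX⟩ := setup R₀ hR hn hUR hUab hUc hQR eQ
    set Z := (Subgroup.center (R₀ : Subgroup G)).map (R₀ : Subgroup G).subtype with hZ
    have hxZ : x ∈ Z := ⟨⟨x, hxR⟩, hxc, rfl⟩
    have hNV : Subgroup.normalizer ((Q ⊔ Z : Subgroup G) : Set G) ≤ C := by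
      intro g hg
      rw [hX] at hg
      rw [hC, Subgroup.mem_centralizer_singleton_iff]
      exact mul_inv_eq_iff_eq_mul.mp (fix_center R₀ d hm hab hg x hxZ)
    have hQC := hQR.trans hRC
    have hUC := hUR.trans hRC
    have eQ' : Q.subgroupOf C ≃* QuaternionGroup 2 := (Subgroup.subgroupOfEquivOfLe hQC).trans eQ
    have hU' : U.subgroupOf C ≤ (R : Subgroup C) := fun y hy => hUR hy
    have hQ' : Q.subgroupOf C ≤ (R : Subgroup C) := fun y hy => hQR hy
    have hUab' : IsMulCommutative (U.subgroupOf C) := ⟨⟨fun p q => Subtype.ext (Subtype.ext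
      (congrArg (fun t : U => (t : G)) (hUab.is_comm.comm (⟨_, p.2⟩ : U) ⟨_, q.2⟩) :))⟩⟩
    have hUc' : Nat.card (U.subgroupOf C) = 2 ^ (2 * n) := by
      rw [Nat.card_congr (Subgroup.subgroupOfEquivOfLe hUC).toEquiv, hUc]
    have hn' : Nat.card (R : Subgroup C) = 2 ^ (2 * n + 1) := by rw [Nat.card_congr e.toEquiv]; exact hn
    have hZC : (Subgroup.center (R : Subgroup C)).map (R : Subgroup C).subtype = Z.subgroupOf C := by
      ext y
      constructor
      · rintro ⟨r, hr, rfl⟩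
        exact ⟨⟨((r : C) : G), r.2⟩, Subgroup.mem_center_iff.mpr fun s => Subtype.ext
          (congrArg (fun t : (R : Subgroup C) => ((t : C) : G))
            (Subgroup.mem_center_iff.mp hr ⟨⟨s, hRC s.2⟩, s.2⟩)), rfl⟩
      · rintro ⟨r, hr, hry⟩
        have hry' : (r : G) = (y : G) := hry
        refine ⟨⟨y, show (y : G) ∈ (R₀ : Subgroup G) from hry' ▸ r.2⟩,
          Subgroup.mem_center_iff.mpr fun s => Subtype.ext (Subtype.ext ?_), rfl⟩
        show ((s : C) : G) * (y : G) = (y : G) * ((s : C) : G)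
        rw [← hry']
        exact congrArg Subtype.val (Subgroup.mem_center_iff.mp hr ⟨_, s.2⟩)
    have h6' := (relIndex_sup_centralizer (A := Q ⊔ Z) hNV).trans h6
    rw [Subgroup.subgroupOf_sup hQC ((Subgroup.map_subtype_le _).trans hRC), ← hZC] at h6'
    rcases (Cfsg.Agent.S1208.result R hRW n hn' _ hU' hUab' hUc' _ hQ' eQ').1 with h1 | h1
    · obtain ⟨⟨K, hK, hK2, hKP, hKH⟩, hwc, -⟩ :=
        Cfsg.Agent.S1210.result R hRW n hn' _ hU' hUab' hUc' _ hQ' eQ' h1 h6'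
      exact ⟨⟨K, hK, ⟨n, hK2⟩, hKH, hKP⟩, hwc⟩
    · exfalso
      obtain ⟨-, d', m', a', b', hm', -, -, hUd, -, -⟩ := setup R hRW hn' hU' hUab' hUc' hQ' eQ'
      rw [hUd] at h1
      obtain ⟨g, -, hgT, hgC, hodd⟩ := exists_odd_U R d' h1
      have hxC : x ∈ C := hRC hxR
      have hxR' : (⟨x, hxC⟩ : C) ∈ (R : Subgroup C) := hxR
      have hxd : (⟨⟨x, hxC⟩, hxR'⟩ : (R : Subgroup C)) = d'.w := by
        refine (center_facts (Or.inr hRW)).1 _ ?_ _ (w_central d') ?_ (orderOf_half_u d').2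
        · obtain ⟨r, hr, hry⟩ := hZC.ge (Subgroup.mem_subgroupOf.mpr hxZ :
            (⟨x, hxC⟩ : C) ∈ Z.subgroupOf C)
          rwa [show (⟨⟨x, hxC⟩, hxR'⟩ : (R : Subgroup C)) = r from Subtype.ext hry.symm]
        · rw [Subgroup.orderOf_mk, Subgroup.orderOf_mk, hx]
      have hxT : (⟨x, hxC⟩ : C) ∈ up R d'.T0 := ⟨d'.w, (half_mem_T0 R d').2.2, congrArg Subtype.val hxd.symm⟩
      refine hgC (Subgroup.mem_centralizer_iff.mpr fun b hb => ?_)
      rcases eq_or_ne b 1 with rfl | hb1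
      · rw [one_mul, mul_one]
      have hgx : g * (⟨x, hxC⟩ : C) * g⁻¹ = ⟨x, hxC⟩ := Subtype.ext (mul_inv_eq_iff_eq_mul.mpr (hcx g g.2))
      rcases CfsgLib.LocalFusion.klein_transitive (T0_klein R d') hgT hgC hodd (a := ⟨x, hxC⟩) (b := b) hxT
        (fun h => hx1 (congrArg Subtype.val h)) hb hb1 with e' | e' | e'
      · rw [e']; exact Subtype.ext (hcx g g.2).symm
      · rw [e', hgx]; exact Subtype.ext (hcx g g.2).symm
      · rw [e', CfsgLib.LocalFusion.conj_pow_fix hgx 2]; exact Subtype.ext (hcx g g.2).symm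

end CfsgLib.QDWNoTwo
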