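import Cfsg.Agent.Lib.Fusion.WreathedSimple

/-!
Quasi-dihedral and wreathed Sylow 2-subgroups without a subgroup of index two: there are no proper
fusion-closed subgroups.
-/

set_option autoImplicit false
set_option linter.unusedSectionVars false

namespace CfsgLib.QDWNoTwo

open CfsgLib.GroupSimple CfsgLib.Wr
open CfsgLib.RankTwoSimple (exists_central)

variable {G : Type*} [Group G] [Finite G]

/-- A normal subgroup of 2-power index lies in a subgroup of index two. -/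
theorem no_two_power_index (hG : ∀ H : Subgroup G, H.index ≠ 2) {K : Subgroup G} (hK : K.Normal)
    {n : ℕ} (hn : 1 ≤ n) (hne : K.index = 2 ^ n) : False := by
  haveI : Fact (Nat.Prime 2) := ⟨Nat.prime_two⟩
  have hc : Nat.card (G ⧸ K) = 2 ^ n := by rw [← Subgroup.index_eq_card, hne]
  obtain ⟨H, hH⟩ := Sylow.exists_subgroup_card_pow_prime (G := G ⧸ K) 2 (n := n - 1)
    (by rw [hc]; exact pow_dvd_pow 2 (by omega))
  refine hG (H.comap (QuotientGroup.mk' K)) ?_
  rw [Subgroup.index_comap_of_surjective _ (QuotientGroup.mk'_surjective K)]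
  have h1 := H.card_mul_index
  rw [hH, hc, show 2 ^ n = 2 ^ (n - 1) * 2 by rw [← pow_succ]; congr 1; omega] at h1
  exact Nat.eq_of_mul_eq_mul_left (by positivity) h1

open CfsgLib.RankTwoSimple (isConj_of_card_classes)

/-- Without a subgroup of index two there is one class of involutions and one of elements of order four. -/
theorem classes_of_quasiDihedral (U : Sylow 2 G) (hQD : Cfsg.IsQuasiDihedral (U : Subgroup G))
    (hG : ∀ H : Subgroup G, H.index ≠ 2) :
    Nat.card {C : ConjClasses G // ∃ t : G, orderOf t = 2 ∧ ConjClasses.mk t = C} = 1 ∧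
      Nat.card {C : ConjClasses G // ∃ t : G, orderOf t = 4 ∧ ConjClasses.mk t = C} = 1 := by
  haveI : Fact (Nat.Prime 2) := ⟨Nat.prime_two⟩
  obtain ⟨n, -, hcard, d, -⟩ := CfsgLib.QD.exists_data hQD
  -- a four group and a quaternion group
  let T₀ : Subgroup (U : Subgroup G) := Subgroup.closure {d.z, d.y}
  have hz2 := CfsgLib.QD.orderOf_z d
  have hzy : d.z ≠ d.y := fun h => CfsgLib.QD.y_not_mem d (h ▸ CfsgLib.QD.z_mem_X d)
  have hzyo : orderOf (d.z * d.y) = 2 := by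
    refine CfsgLib.Involutions.orderOf_eq_two_iff'.mpr ⟨?_, fun h => hzy ?_⟩
    · have hc : d.y * d.z = d.z * d.y := Subgroup.mem_center_iff.mp (CfsgLib.QD.z_central d) d.y
      calc d.z * d.y * (d.z * d.y) = d.z * (d.y * d.z) * d.y := by group
        _ = d.z * d.z * (d.y * d.y) := by rw [hc]; group
        _ = 1 := by rw [CfsgLib.QD.hyy, CfsgLib.Involutions.mul_self_eq_one_of_orderOf hz2, mul_one]
    · rw [eq_inv_of_mul_eq_one_left h, CfsgLib.QD.yinv]
  obtain ⟨eT⟩ : Nonempty (DihedralGroup 2 ≃* T₀) := by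
    have h := (MonoidHom.ofInjective (CfsgLib.Involutions.toClosure_injective hz2 d.hy hzy)).trans
      (MulEquiv.subgroupCongr (CfsgLib.Involutions.toClosure_range
        (CfsgLib.Involutions.mul_self_eq_one_of_orderOf hz2) (CfsgLib.QD.hyy d)))
    rw [hzyo] at h
    exact ⟨h⟩
  let T := T₀.map (U : Subgroup G).subtype
  have eT' : DihedralGroup 2 ≃* T := eT.trans (T₀.equivMapOfInjective _ (Subgroup.subtype_injective _))
  have hTk : IsKleinFour T :=
    ⟨by rw [← Nat.card_congr eT'.toEquiv, IsKleinFour.card_four],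
      by rw [← Monoid.exponent_eq_of_mulEquiv eT', IsKleinFour.exponent_two]⟩
  let c : (U : Subgroup G) := d.x ^ (2 * (d.M : ℤ))
  let b : (U : Subgroup G) := d.x ^ (1 : ℤ) * d.y
  have hc4 : orderOf c = 4 := CfsgLib.QD.orderOf_zpow_quarter d
  have hb2 : b * b = c ^ 2 := by
    show d.x ^ (1 : ℤ) * d.y * (d.x ^ (1 : ℤ) * d.y) = (d.x ^ (2 * (d.M : ℤ))) ^ 2
    rw [CfsgLib.QD.xy_mul_self, ← zpow_natCast, ← zpow_mul]
    congr 1
    push_cast
    ring
  have hbc : b * c * b⁻¹ = c⁻¹ := by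
    show d.x ^ (1 : ℤ) * d.y * d.x ^ (2 * (d.M : ℤ)) * (d.x ^ (1 : ℤ) * d.y)⁻¹ = (d.x ^ (2 * (d.M : ℤ)))⁻¹
    rw [mul_inv_rev, show d.x ^ (1 : ℤ) * d.y * d.x ^ (2 * (d.M : ℤ)) * (d.y⁻¹ * (d.x ^ (1 : ℤ))⁻¹)
        = d.x ^ (1 : ℤ) * (d.y * d.x ^ (2 * (d.M : ℤ)) * d.y⁻¹) * (d.x ^ (1 : ℤ))⁻¹ by simp [mul_assoc],
      CfsgLib.QD.conj_y, ← zpow_neg, ← zpow_neg, ← zpow_add, ← zpow_add, CfsgLib.QD.zpow_eq_iff]
    exact ⟨-(d.M : ℤ), by ring⟩
  obtain ⟨eQ₀⟩ := CfsgLib.Quat.nonempty_equiv (a := c) (b := b) (n := 2)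
    (by rw [show 2 * 2 = orderOf c by rw [hc4], pow_orderOf_eq_one]) hb2 hbc (by rw [hc4])
    (fun h => CfsgLib.QD.xy_not_mem d 1 ((Subgroup.zpowers_le.mpr (CfsgLib.QD.zpow_mem_X d _)) h))
  let Q := (Subgroup.closure ({c, b} : Set (U : Subgroup G))).map (U : Subgroup G).subtype
  have eQ : Q ≃* QuaternionGroup 2 :=
    (Subgroup.equivMapOfInjective _ _ (Subgroup.subtype_injective _)).symm.trans eQ₀
  have hTU : T ≤ (U : Subgroup G) := Subgroup.map_subtype_le _
  have hQU : Q ≤ (U : Subgroup G) := Subgroup.map_subtype_le _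
  obtain ⟨h1, h2⟩ := Cfsg.Agent.S1203.result U hQD T hTk hTU Q hQU eQ
  rcases h1 with h1 | h1 <;> rcases h2 with h2 | h2
  · exfalso
    obtain ⟨⟨P, N, hN, hc⟩, -⟩ := Cfsg.Agent.S1207.result U hQD T hTk hTU Q hQU eQ h1 h2
    have hP : Nat.card (P : Subgroup G) = 2 ^ (n + 1) := by rw [← hcard]; exact Nat.card_congr (P.equiv U).toEquiv
    exact no_two_power_index hG hN (n := n + 1) (by omega)
      (by rw [Subgroup.IsComplement'.index_eq_card hc.symm, hP])
  · obtain ⟨⟨K, hK, hK2, -⟩, -⟩ := Cfsg.Agent.S1205.result U hQD T hTk hTU Q hQU eQ h1 h2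
    exact absurd hK2 (hG K)
  · obtain ⟨⟨K, hK, hK2, -⟩, -⟩ := Cfsg.Agent.S1206.result U hQD T hTk hTU Q hQU eQ h1 h2
    exact absurd hK2 (hG K)
  · exact (Cfsg.Agent.S1204.result U hQD T hTk hTU Q hQU eQ h1 h2).2

/-- No proper closed subgroup, quasi-dihedral case. -/
theorem closed_of_quasiDihedral (U : Sylow 2 G) (hQD : Cfsg.IsQuasiDihedral (U : Subgroup G))
    (hG : ∀ H : Subgroup G, H.index ≠ 2) (T : Subgroup G) (hT : FusionClosed (U : Subgroup G) T) (h1 : T ≠ ⊥) : (U : Subgroup G) ≤ T := by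
  haveI : Fact (Nat.Prime 2) := ⟨Nat.prime_two⟩
  obtain ⟨n, hn, hcard, d, -⟩ := CfsgLib.QD.exists_data hQD
  obtain ⟨hI, hF⟩ := classes_of_quasiDihedral U hQD hG
  obtain ⟨c, hcT, -, hc2⟩ := exists_central U hT h1
  have hmem : ∀ k, Nat.card {C : ConjClasses G // ∃ t : G, orderOf t = k ∧ ConjClasses.mk t = C} = 1 →
      ∀ a : (U : Subgroup G), (a : G) ∈ T → orderOf a = k → ∀ b : (U : Subgroup G), orderOf b = k → (b : G) ∈ T := by
    intro k hk a haT ha b hb
    obtain ⟨g, hg⟩ := isConj_iff.mp (isConj_of_card_classes hk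
      (a := (a : G)) (b := (b : G)) (by rw [Subgroup.orderOf_coe, ha]) (by rw [Subgroup.orderOf_coe, hb]))
    have := hT.2 _ haT g (by rw [hg]; exact b.2)
    rwa [hg] at this
  have hinv := hmem 2 hI c hcT hc2
  have hy : ((d.y : (U : Subgroup G)) : G) ∈ T := hinv d.y d.hy
  have hx2y : ((d.x ^ (2 * (d.M : ℤ)) * d.y : (U : Subgroup G)) : G) ∈ T :=
    hinv _ (CfsgLib.QD.orderOf_xy_even d d.M)
  have hc : ((d.x ^ (2 * (d.M : ℤ)) : (U : Subgroup G)) : G) ∈ T := by
    have := mul_mem hx2y hy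
    rw [← Subgroup.coe_mul, mul_assoc, CfsgLib.QD.hyy, mul_one] at this
    exact this
  have hxy : ((d.x ^ (1 : ℤ) * d.y : (U : Subgroup G)) : G) ∈ T :=
    hmem 4 hF _ hc (CfsgLib.QD.orderOf_zpow_quarter d) _ (by simpa using CfsgLib.QD.orderOf_xy_odd d 0)
  have hx : ((d.x : (U : Subgroup G)) : G) ∈ T := by
    have := mul_mem hxy hy
    rw [← Subgroup.coe_mul, mul_assoc, CfsgLib.QD.hyy, mul_one, zpow_one] at this
    exact this
  intro s hs
  obtain ⟨k, e | e⟩ := CfsgLib.QD.cases_elem d (⟨s, hs⟩ : (U : Subgroup G))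
  · have := zpow_mem hx k
    rwa [← Subgroup.coe_zpow, ← e] at this
  · have := mul_mem (zpow_mem hx k) hy
    rwa [← Subgroup.coe_zpow, ← Subgroup.coe_mul, ← e] at this

/-- No proper closed subgroup, wreathed case. -/
theorem closed_of_wreathed (S : Sylow 2 G) (hW : Cfsg.IsWreathed (S : Subgroup G))
    (hG : ∀ H : Subgroup G, H.index ≠ 2) (T : Subgroup G) (hT : FusionClosed (S : Subgroup G) T) (h1 : T ≠ ⊥) : (S : Subgroup G) ≤ T := by
  haveI : Fact (Nat.Prime 2) := ⟨Nat.prime_two⟩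
  obtain ⟨n, hn2, hn, d, hdh⟩ := CfsgLib.Wr.exists_data hW
  have h2h : 2 * d.h = 2 ^ n := by rw [hdh, ← pow_succ']; congr 1; omega
  have hm : d.h = 2 * 2 ^ (n - 2) := by rw [hdh, ← pow_succ']; congr 1; omega
  have hcardU : Nat.card (up S d.U) = 2 ^ (2 * n) := by
    rw [Nat.card_congr (upEquiv S _).toEquiv, card_U, h2h, ← pow_add, two_mul]
  have hUab : IsMulCommutative (up S d.U) := ⟨⟨fun a b => Subtype.ext (U_comm_up S d a a.2 b b.2)⟩⟩
  have hab : (d.h : ℤ) + 0 = d.h := add_zero _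
  obtain ⟨eQ₀⟩ := Qs_equiv d hm hab
  have eQ : up S (d.Qs (2 ^ (n - 2)) d.h 0) ≃* QuaternionGroup 2 := (upEquiv S _).trans eQ₀
  have hQS := up_le S (d.Qs (2 ^ (n - 2)) d.h 0)
  obtain ⟨h1', h2'⟩ := Cfsg.Agent.S1208.result S hW n hn _ (up_le S _) hUab hcardU _ hQS eQ
  have h66 : (Subgroup.centralizer (up S d.U : Set G)).relIndex (Subgroup.normalizer (up S d.U : Set G)) = 6 ∧
      Nat.card {C : ConjClasses G // ∃ t : G, orderOf t = 2 ∧ ConjClasses.mk t = C} = 1 := by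
    rcases h1' with h1' | h1' <;> rcases h2' with h2' | h2'
    · exfalso
      obtain ⟨⟨P, N, hN, hc⟩, -⟩ := Cfsg.Agent.S1212.result S hW n hn _ (up_le S _) hUab hcardU _ hQS eQ h1' h2'
      refine no_two_power_index hG hN (n := 2 * n + 1) (by omega) ?_
      rw [Subgroup.IsComplement'.index_eq_card hc.symm, ← hn]
      exact Nat.card_congr (P.equiv S).toEquiv
    · obtain ⟨⟨K, hK, hKi, -⟩, -⟩ := Cfsg.Agent.S1210.result S hW n hn _ (up_le S _) hUab hcardU _ hQS eQ h1' h2'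
      exact (no_two_power_index hG hK (n := n) (by omega) hKi).elim
    · obtain ⟨⟨K, hK, hKi, -⟩, -⟩ := Cfsg.Agent.S1211.result S hW n hn _ (up_le S _) hUab hcardU _ hQS eQ h1' h2'
      exact absurd hKi (hG K)
    · exact ⟨h1', (Cfsg.Agent.S1209.result S hW n hn _ (up_le S _) hUab hcardU _ hQS eQ h1' h2').2⟩
  obtain ⟨h6, hI⟩ := h66
  -- all involutions lie in `T`
  obtain ⟨c, hcT, -, hc2⟩ := exists_central S hT h1
  have hinv : ∀ b : (S : Subgroup G), b * b = 1 → (b : G) ∈ T := by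
    intro b hb
    rcases eq_or_ne b 1 with rfl | hb1
    · exact one_mem T
    obtain ⟨g, hg⟩ := isConj_iff.mp (isConj_of_card_classes hI (a := (c : G)) (b := (b : G))
      (by rw [Subgroup.orderOf_coe, hc2])
      (by rw [Subgroup.orderOf_coe]; exact CfsgLib.Involutions.orderOf_eq_two_iff'.mpr ⟨hb, hb1⟩))
    have := hT.2 _ hcT g (by rw [hg]; exact b.2)
    rwa [hg] at this
  have hz : ((d.z : (S : Subgroup G)) : G) ∈ T := hinv d.z (hzz d)
  let e : (S : Subgroup G) := d.u 1 (-1)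
  have he : (e : G) ∈ T := by
    have hv := hinv (d.v 1 (-1)) ((v_mul_self_eq_one_iff d).mpr (by simp))
    have := mul_mem hv hz
    rwa [← Subgroup.coe_mul, show d.v 1 (-1) * d.z = e by
      rw [v_eq, mul_assoc, hzz, mul_one]] at this
  -- an element rotating the involutions of `U`
  obtain ⟨g, hgU, hgT0, hgC, hgodd⟩ := exists_odd_U S d h6
  obtain ⟨o, hoU, ho⟩ : ∃ o ∈ d.U, (o : G) = g * (e : G) * g⁻¹ := by
    obtain ⟨o, hoU, ho⟩ := (Subgroup.mem_normalizer_iff.mp hgU (e : G)).mp ((coe_mem_up S).mpr (u_mem d 1 (-1)))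
    exact ⟨o, hoU, ho⟩
  obtain ⟨i, j, rfl⟩ := hoU
  have hoT : ((d.u i j : (S : Subgroup G)) : G) ∈ T := by
    have h := hT.2 _ he g (by rw [← ho]; exact (d.u i j).2)
    rwa [← ho] at h
  have hpar : ¬ (2 : ℤ) ∣ i + j := by
    intro hdvd
    have hew : e ^ (d.h : ℤ) = d.w := by
      show d.u 1 (-1) ^ (d.h : ℤ) = d.u d.h d.h
      rw [u_zpow, u_eq_iff]
      exact ⟨⟨0, by ring⟩, ⟨1, by ring⟩⟩
    have how : ((d.u (i * d.h) (j * d.h) : (S : Subgroup G)) : G) = g * ((d.w : (S : Subgroup G)) : G) * g⁻¹ := by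
      rw [← u_zpow, Subgroup.coe_zpow, ho, conj_zpow, ← Subgroup.coe_zpow, hew]
    have hfix : g * ((d.w : (S : Subgroup G)) : G) * g⁻¹ = ((d.w : (S : Subgroup G)) : G) := by
      rw [← how]
      have hcase : d.u (i * d.h) (j * d.h) = 1 ∨ d.u (i * d.h) (j * d.h) = d.w := by
        obtain ⟨t, ht⟩ := hdvd
        obtain ⟨r, rfl | rfl⟩ := Int.even_or_odd' i
        · left
          rw [u_eq_one_iff]
          exact ⟨⟨r, by ring⟩, ⟨t - r, by rw [show j = 2 * (t - r) by linarith]; ring⟩⟩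
        · right
          rw [Data.w, u_eq_iff]
          refine ⟨⟨-r, by ring⟩, ⟨r - t + 1, ?_⟩⟩
          rw [show j = 2 * t - (2 * r + 1) by linarith]
          ring
      rcases hcase with h0 | h0
      · exfalso
        rw [h0, Subgroup.coe_one] at how
        have hw1 : d.w = 1 := Subtype.ext (conj_eq_one_iff.mp how.symm)
        have := (orderOf_half_u d).2
        rw [hw1, orderOf_one] at this
        omega
      · exact congrArg Subtype.val h0
    haveI := T0_klein S d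
    obtain ⟨m1, -, m3⟩ := half_mem_T0 S d
    have hne1 : ∀ {a : (S : Subgroup G)}, orderOf a = 2 → (a : G) ≠ 1 := fun {a} ha h => by
      rw [show a = 1 from Subtype.ext h, orderOf_one] at ha
      omega
    rcases CfsgLib.LocalFusion.klein_transitive (T0_klein S d) hgT0 hgC hgodd ((coe_mem_up S).mpr m3)
      (hne1 (orderOf_half_u d).2) ((coe_mem_up S).mpr m1) (hne1 (orderOf_half_u d).1) with e1 | e1 | e1
    · exact (half_ne S d).1 (Subtype.ext e1)
    · exact (half_ne S d).1 (Subtype.ext (e1.trans hfix))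
    · exact (half_ne S d).1 (Subtype.ext (e1.trans (CfsgLib.LocalFusion.conj_pow_fix hfix 2)))
  -- so all of `U` lies in `T`
  let M := T.subgroupOf (S : Subgroup G)
  have heM : d.u 1 (-1) ∈ M := he
  have hoM : d.u i j ∈ M := hoT
  have hsum : d.u (i + j) 0 ∈ M := by
    have := mul_mem hoM (zpow_mem heM j)
    rwa [u_zpow, u_mul_u, one_mul, neg_one_mul, add_neg_cancel] at this
  obtain ⟨a, b, hab'⟩ : ∃ a b : ℤ, a * (i + j) + b * (2 * d.h : ℤ) = 1 := by
    have hco : IsCoprime (i + j) ((2 : ℤ) ^ n) :=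
      (((Int.prime_two.coprime_iff_not_dvd).mpr hpar).symm).pow_right
    have hcast : (2 : ℤ) ^ n = 2 * (d.h : ℤ) := by exact_mod_cast h2h.symm
    rw [hcast] at hco
    exact hco
  have hx : d.u 1 0 ∈ M := by
    have := zpow_mem hsum a
    rwa [u_zpow, zero_mul, show d.u ((i + j) * a) 0 = d.u 1 0 by
      rw [u_eq_iff]; exact ⟨⟨b, by linear_combination -hab'⟩, ⟨0, by ring⟩⟩] at this
  have hy : d.u 0 1 ∈ M := by
    have := mul_mem (inv_mem heM) hx
    rwa [u_inv, u_mul_u, neg_add_cancel, neg_neg, add_zero] at this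
  intro s hs
  obtain ⟨k, l, hk | hk⟩ := cases_elem d (⟨s, hs⟩ : (S : Subgroup G))
  all_goals
    have hu : d.u k l ∈ M := by
      have := mul_mem (zpow_mem hx k) (zpow_mem hy l)
      rwa [u_zpow, u_zpow, u_mul_u, one_mul, one_mul, zero_mul, zero_mul, add_zero, zero_add] at this
  · show (⟨s, hs⟩ : (S : Subgroup G)) ∈ M
    rw [hk]; exact hu
  · show (⟨s, hs⟩ : (S : Subgroup G)) ∈ M
    rw [hk, v_eq]; exact mul_mem hu hz

end CfsgLib.QDWNoTwo
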