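import Cfsg.Agent.Lib.QDWreathedNoIndexTwo.Closed
import Cfsg.Agent.Lib.Basic
import Cfsg.Agent.S1197

/-!
A group without a subgroup of index two and with quasi-dihedral or wreathed Sylow 2-subgroups has,
modulo its odd core, a simple normal subgroup of odd index.
-/

set_option autoImplicit false

namespace CfsgLib.QDWNoTwo

open Cfsg CfsgLib.GroupSimple

variable {G : Type*} [Group G] [Finite G]

theorem center_facts {S : Type*} [Group S] [Finite S] (hS : IsQuasiDihedral S ∨ IsWreathed S) :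
    (∀ a ∈ Subgroup.center S, ∀ b ∈ Subgroup.center S, orderOf a = 2 → orderOf b = 2 → a = b) ∧
      ¬ IsMulCommutative S := by
  classical
  have hcyc : IsCyclic (Subgroup.center S) ∧ Subgroup.center S ≠ ⊤ := by
    rcases hS with h | h
    · obtain ⟨n, hn, hcard, d, -⟩ := CfsgLib.QD.exists_data h
      rw [CfsgLib.QD.center_eq_zpowers d]
      refine ⟨inferInstance, fun e => ?_⟩
      have := congrArg (fun K : Subgroup S => Nat.card K) e
      simp only [Nat.card_zpowers, CfsgLib.QD.orderOf_z, Subgroup.card_top, hcard] at this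
      have : 2 ^ 1 < 2 ^ (n + 1) := Nat.pow_lt_pow_right (by norm_num) (by omega)
      omega
    · obtain ⟨n, -, hcard, d, -⟩ := CfsgLib.Wr.exists_data h
      exact ⟨(Cfsg.Agent.S1197.result h n hcard).1,
        fun e => CfsgLib.Wr.v_not_central d 0 0 (e ▸ Subgroup.mem_top _)⟩
  refine ⟨fun a ha b hb oa ob => ?_, fun hc => hcyc.2 (eq_top_iff.mpr fun x _ =>
    Subgroup.mem_center_iff.mpr fun y => hc.is_comm.comm y x)⟩
  haveI := hcyc.1
  by_contra hab
  letI : Fintype (Subgroup.center S) := Fintype.ofFinite _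
  let u : Subgroup.center S := ⟨a, ha⟩
  let v : Subgroup.center S := ⟨b, hb⟩
  have h1 : u ≠ 1 := fun e => by
    have : a = 1 := congrArg Subtype.val e
    rw [this, orderOf_one] at oa
    omega
  have h2 : v ≠ 1 := fun e => by
    have : b = 1 := congrArg Subtype.val e
    rw [this, orderOf_one] at ob
    omega
  have h3 : u ≠ v := fun e => hab (congrArg Subtype.val e)
  have hu : u ^ 2 = 1 := Subtype.ext (by
    show a ^ 2 = 1
    rw [← oa]; exact pow_orderOf_eq_one a)
  have hv : v ^ 2 = 1 := Subtype.ext (by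
    show b ^ 2 = 1
    rw [← ob]; exact pow_orderOf_eq_one b)
  have hs : ({1, u, v} : Finset (Subgroup.center S)) ⊆ Finset.univ.filter fun x => x ^ 2 = 1 := by
    intro x hx
    simp only [Finset.mem_insert, Finset.mem_singleton] at hx
    rcases hx with rfl | rfl | rfl <;> simp [hu, hv]
  have := (Finset.card_le_card hs).trans (IsCyclic.card_pow_eq_one_le two_pos)
  rw [Finset.card_insert_of_notMem (by simp [h1.symm, h2.symm]), Finset.card_pair h3] at this
  omega

/-- An even normal subgroup contains a central involution of each Sylow 2-subgroup. -/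
theorem exists_central_involution (S : Sylow 2 G) (M : Subgroup G) [M.Normal] (h2 : 2 ∣ Nat.card M) :
    ∃ c : (S : Subgroup G), (c : G) ∈ M ∧ c ∈ Subgroup.center (S : Subgroup G) ∧ orderOf c = 2 := by
  haveI : Fact (Nat.Prime 2) := ⟨Nat.prime_two⟩
  obtain ⟨a, ha⟩ := exists_prime_orderOf_dvd_card' (G := M) 2 h2
  have hP : IsPGroup 2 (Subgroup.zpowers (a : G)) :=
    IsPGroup.of_card (n := 1) (by rw [Nat.card_zpowers, Subgroup.orderOf_coe, ha, pow_one])
  obtain ⟨R, hR⟩ := hP.exists_le_sylow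
  obtain ⟨g, hg⟩ := MulAction.exists_smul_eq G R S
  have hgS : g * (a : G) * g⁻¹ ∈ (S : Subgroup G) := by
    rw [← hg]
    exact Subgroup.smul_mem_pointwise_smul (a : G) (MulAut.conj g) _ (hR (Subgroup.mem_zpowers _))
  have hT : FusionClosed (S : Subgroup G) ((S : Subgroup G) ⊓ M) :=
    ⟨inf_le_left, fun x hx g hg => ⟨hg, Subgroup.Normal.conj_mem inferInstance x hx.2 g⟩⟩
  have h1 : (S : Subgroup G) ⊓ M ≠ ⊥ := fun e => by
    have h : g * (a : G) * g⁻¹ ∈ (⊥ : Subgroup G) :=
      e ▸ ⟨hgS, Subgroup.Normal.conj_mem inferInstance _ a.2 g⟩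
    rw [Subgroup.mem_bot, conj_eq_one_iff] at h
    rw [show a = 1 from Subtype.ext h, orderOf_one] at ha
    omega
  obtain ⟨c, hc, hcc, hc2⟩ := CfsgLib.RankTwoSimple.exists_central S hT h1
  exact ⟨c, hc.2, hcc, hc2⟩

/-- The core-free form. -/
theorem exists_simple_odd_index (S : Sylow 2 G)
    (hS : IsQuasiDihedral (S : Subgroup G) ∨ IsWreathed (S : Subgroup G))
    (hG : ∀ H : Subgroup G, H.index ≠ 2) (hO : oddCore G = ⊥) :
    ∃ L : Subgroup G, L.Normal ∧ Odd L.index ∧ IsSimpleGroup L ∧ ¬ IsMulCommutative L := by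
  haveI : Fact (Nat.Prime 2) := ⟨Nat.prime_two⟩
  obtain ⟨huniq, hnc⟩ := center_facts hS
  have heven : ∀ M : Subgroup G, M.Normal → M ≠ ⊥ → 2 ∣ Nat.card M := fun M hM h1 => by
    by_contra h
    exact h1 (le_bot_iff.mp (hO ▸ CfsgLib.le_oddCore (Nat.odd_iff.mpr (Nat.two_dvd_ne_zero.mp h))))
  have hSbot : (S : Subgroup G) ≠ ⊥ := fun e => hnc (by
    refine ⟨⟨fun a b => Subtype.ext ?_⟩⟩
    have ha : (a : G) = 1 := Subgroup.mem_bot.mp (e ▸ a.2)
    have hb : (b : G) = 1 := Subgroup.mem_bot.mp (e ▸ b.2)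
    simp [ha, hb])
  obtain ⟨N, ⟨hN, hN1⟩, hmin⟩ := (Set.toFinite {M : Subgroup G | M.Normal ∧ M ≠ ⊥}).exists_minimal
    ⟨⊤, inferInstance, fun h => hSbot (le_bot_iff.mp (h ▸ le_top))⟩
  haveI := hN
  have hSN : (S : Subgroup G) ≤ N := by
    obtain ⟨c, hc, -, hc2⟩ := exists_central_involution S N (heven N hN hN1)
    have hT : FusionClosed (S : Subgroup G) ((S : Subgroup G) ⊓ N) :=
      ⟨inf_le_left, fun x hx g hg => ⟨hg, hN.conj_mem x hx.2 g⟩⟩
    have h1 : (S : Subgroup G) ⊓ N ≠ ⊥ := fun e => by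
      have : (c : G) ∈ (⊥ : Subgroup G) := e ▸ ⟨c.2, hc⟩
      rw [Subgroup.mem_bot] at this
      rw [show c = 1 from Subtype.ext this, orderOf_one] at hc2
      omega
    rcases hS with h | h
    · exact (closed_of_quasiDihedral S h hG _ hT h1).trans inf_le_right
    · exact (closed_of_wreathed S h hG _ hT h1).trans inf_le_right
  have hncN : ¬ IsMulCommutative N := fun h => hnc ⟨⟨fun a b => Subtype.ext
    (congrArg (fun t : N => (t : G)) (h.is_comm.comm (⟨a, hSN a.2⟩ : N) ⟨b, hSN b.2⟩) :)⟩⟩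
  refine ⟨N, hN, Nat.odd_iff.mpr (Nat.two_dvd_ne_zero.mp fun h =>
    S.not_dvd_index (h.trans (Subgroup.index_dvd_of_le hSN))), ?_, hncN⟩
  haveI : Nontrivial N := (Subgroup.nontrivial_iff_ne_bot _).mpr hN1
  have hON : ∀ M : Subgroup N, M.Normal → M ≠ ⊥ → 2 ∣ Nat.card M := fun M hM h1 => by
    by_contra h
    have h2 : M ≤ oddCore N := CfsgLib.le_oddCore (Nat.odd_iff.mpr (Nat.two_dvd_ne_zero.mp h))
    have h3 : ((oddCore N).map N.subtype).Normal := inferInstance
    have h4 : (oddCore N).map N.subtype = ⊥ := le_bot_iff.mp (hO ▸ CfsgLib.le_oddCore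
      (by rw [Subgroup.card_map_of_injective N.subtype_injective]; exact CfsgLib.odd_card_oddCore))
    rw [(oddCore N).map_eq_bot_iff_of_injective N.subtype_injective] at h4
    exact h1 (le_bot_iff.mp (h4 ▸ h2))
  -- two normal subgroups of `N` with trivial meet: both contain the central involution of `S`
  have hmeet : ∀ A B : Subgroup N, A.Normal → B.Normal → A ≠ ⊥ → B ≠ ⊥ → A ⊓ B ≠ ⊥ := by
    intro A B hA hB hA1 hB1 hAB
    have get : ∀ M : Subgroup N, M.Normal → M ≠ ⊥ → ∃ c : (S : Subgroup G),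
        (⟨c, hSN c.2⟩ : N) ∈ M ∧ c ∈ Subgroup.center (S : Subgroup G) ∧ orderOf c = 2 := by
      intro M hM h1
      haveI := hM
      obtain ⟨c, hc, hcc, hc2⟩ := exists_central_involution (S.subtype hSN) M (hON M hM h1)
      have hcS : ((c : N) : G) ∈ (S : Subgroup G) := c.2
      refine ⟨⟨(c : N), hcS⟩, hc, Subgroup.mem_center_iff.mpr fun s => Subtype.ext ?_, ?_⟩
      · have h := Subgroup.mem_center_iff.mp hcc
          (⟨⟨s, hSN s.2⟩, s.2⟩ : ((S.subtype hSN : Sylow 2 N) : Subgroup N))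
        exact congrArg (fun t : ((S.subtype hSN : Sylow 2 N) : Subgroup N) => ((t : N) : G)) h
      · refine ((Subgroup.orderOf_coe (⟨((c : N) : G), hcS⟩ : (S : Subgroup G))).symm.trans ?_).trans hc2
        exact (Subgroup.orderOf_coe (c : N)).trans (Subgroup.orderOf_coe c)
    obtain ⟨a, haA, hac, ha2⟩ := get A hA hA1
    obtain ⟨b, hbB, hbc, hb2⟩ := get B hB hB1
    obtain rfl := huniq a hac b hbc ha2 hb2
    have : (⟨a, hSN a.2⟩ : N) ∈ (⊥ : Subgroup N) := hAB ▸ ⟨haA, hbB⟩
    rw [Subgroup.mem_bot, Subtype.ext_iff] at this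
    rw [show a = 1 from Subtype.ext this, orderOf_one] at ha2
    omega
  refine ⟨fun A hA => or_iff_not_imp_left.mpr fun hA1 => ?_⟩
  obtain ⟨M, ⟨hMle, hMn, hM1⟩, hMmin⟩ :=
    (Set.toFinite {M : Subgroup N | M ≤ A ∧ M.Normal ∧ M ≠ ⊥}).exists_minimal ⟨A, le_rfl, hA, hA1⟩
  have hnorm : (M.map N.subtype).Normal := by
    refine ⟨fun x hx g => ?_⟩
    let c : N →* N := ((MulAut.conjNormal g : MulAut N)).toMonoidHom
    have hB : (M.map c).Normal := hMn.map c (MulAut.conjNormal g : MulAut N).surjective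
    have hB1 : M.map c ≠ ⊥ := fun e =>
      hM1 ((M.map_eq_bot_iff_of_injective (MulAut.conjNormal g : MulAut N).injective).mp e)
    have hle : M ≤ M.map c :=
      (hMmin (y := M ⊓ M.map c) ⟨inf_le_left.trans hMle, inferInstance, hmeet M _ hMn hB hM1 hB1⟩
        inf_le_left).trans inf_le_right
    have heq : M = M.map c := SetLike.ext' (Set.eq_of_subset_of_ncard_le hle
      (le_of_eq (by
        rw [← Nat.card_coe_set_eq, ← Nat.card_coe_set_eq]
        exact Subgroup.card_map_of_injective (MulAut.conjNormal g : MulAut N).injective)) (Set.toFinite _))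
    obtain ⟨y, hy, rfl⟩ := Subgroup.mem_map.mp hx
    refine Subgroup.mem_map.mpr ⟨c y, ?_, MulAut.conjNormal_apply g y⟩
    rw [heq]
    exact Subgroup.mem_map_of_mem c hy
  have hle : N ≤ M.map N.subtype :=
    hmin ⟨hnorm, fun e => hM1 ((M.map_eq_bot_iff_of_injective N.subtype_injective).mp e)⟩
      (Subgroup.map_subtype_le M)
  refine eq_top_iff.mpr fun y _ => hMle ?_
  obtain ⟨z, hz, hzy⟩ := Subgroup.mem_map.mp (hle y.2)
  rwa [Subtype.ext hzy] at hz

/-- Modulo the odd core. -/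
theorem main (S : Sylow 2 G)
    (hS : IsQuasiDihedral (S : Subgroup G) ∨ IsWreathed (S : Subgroup G))
    (hG : ∀ H : Subgroup G, H.index ≠ 2) :
    ∃ L : Subgroup (G ⧸ oddCore G), L.Normal ∧ Odd L.index ∧ IsSimpleGroup L ∧ ¬ IsMulCommutative L := by
  haveI : Fact (Nat.Prime 2) := ⟨Nat.prime_two⟩
  set f := QuotientGroup.mk' (oddCore G)
  have hf := QuotientGroup.mk'_surjective (oddCore G)
  have hinj : Function.Injective (f.subgroupMap (S : Subgroup G)) := by
    rw [injective_iff_map_eq_one]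
    intro x hx
    have h1 : (x : G) ∈ oddCore G := (QuotientGroup.eq_one_iff _).mp (congrArg Subtype.val hx)
    have hcop : (Nat.card (S : Subgroup G)).Coprime (Nat.card (oddCore G)) := by
      obtain ⟨k, hk⟩ := S.2.exists_card_eq
      rw [hk]
      exact ((Nat.coprime_two_right.mpr CfsgLib.odd_card_oddCore).symm).pow_left k
    exact Subtype.ext (Subgroup.mem_bot.mp ((Subgroup.inf_eq_bot_of_coprime hcop) ▸ ⟨x.2, h1⟩))
  let e : (S : Subgroup G) ≃* (S.mapSurjective hf : Subgroup (G ⧸ oddCore G)) :=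
    (MulEquiv.ofBijective _ ⟨hinj, f.subgroupMap_surjective _⟩).trans
      (MulEquiv.subgroupCongr (Sylow.coe_mapSurjective hf S).symm)
  refine exists_simple_odd_index (S.mapSurjective hf) ?_ (fun H hH => hG (H.comap f)
    (by rw [Subgroup.index_comap_of_surjective _ hf, hH])) ?_
  · rcases hS with ⟨n, hn, hc, x, y, hx, hy, hxy⟩ | ⟨n, hn, hc, x, y, z, hx, hxy, hd, hz, hzx⟩
    · refine Or.inl ⟨n, hn, by rw [← Nat.card_congr e.toEquiv]; exact hc, e x, e y,
        (orderOf_injective e.toMonoidHom e.injective x).trans hx,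
        (orderOf_injective e.toMonoidHom e.injective y).trans hy, ?_⟩
      rw [← map_inv, ← map_mul, ← map_mul, hxy, map_pow]
    · refine Or.inr ⟨n, hn, by rw [← Nat.card_congr e.toEquiv]; exact hc, e x, e y, e z,
        (orderOf_injective e.toMonoidHom e.injective x).trans hx,
        by rw [← map_mul, hxy, map_mul], ?_,
        (orderOf_injective e.toMonoidHom e.injective z).trans hz,
        by rw [← map_inv, ← map_mul, ← map_mul, hzx]⟩
      rw [show e y = e.toMonoidHom y from rfl,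
        show e x = e.toMonoidHom x from rfl, ← MonoidHom.map_zpowers, ← MonoidHom.map_zpowers,
        ← Subgroup.map_inf _ _ _ e.injective, hd, Subgroup.map_bot]
  · have hK : Odd (Nat.card ((oddCore (G ⧸ oddCore G)).comap f)) := by
      have h1 := Subgroup.card_mul_index (oddCore (G ⧸ oddCore G))
      have h2 := Subgroup.card_mul_index ((oddCore (G ⧸ oddCore G)).comap f)
      rw [Subgroup.index_comap_of_surjective _ hf] at h2
      have h3 := (oddCore G).card_mul_index
      rw [Subgroup.index_eq_card (oddCore G), ← h1, ← h2, ← mul_assoc] at h3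
      rw [← Nat.eq_of_mul_eq_mul_right (Nat.pos_of_ne_zero Subgroup.index_ne_zero_of_finite) h3]
      exact CfsgLib.odd_card_oddCore.mul CfsgLib.odd_card_oddCore
    refine le_bot_iff.mp fun q hq => ?_
    obtain ⟨g, rfl⟩ := hf q
    exact Subgroup.mem_bot.mpr ((QuotientGroup.eq_one_iff g).mpr
      (CfsgLib.le_oddCore hK (Subgroup.mem_comap.mpr hq)))

end CfsgLib.QDWNoTwo
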